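import Mathlib
import Cfsg.Prelude.Def_LieTypeDatum
import Cfsg.Agent.Lib.Classical.OmegaCentre
import Cfsg.Agent.Lib.Classical.OrthMatrix

/-! Automorphisms of `PΩ(Q)` induced by similarities: the action and its kernel. -/

set_option autoImplicit false

namespace Cfsg.Lib.Classical.OrthAut

open Module Reflections OrthMatrix
open scoped Matrix MatrixGroups

universe u

variable {ι : Type} [Fintype ι] [DecidableEq ι] {F : Type u} [Field F]

local notation "Sim" f:max => Cfsg.Geo.quadSimilarityGroup (F := _) f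

variable {f : (ι → F) → F}

lemma conj_mem {g : GL ι F} (hg : g ∈ Cfsg.Geo.quadSimilarityGroup (F := F) f) {x : GL ι F}
    (hx : x ∈ Cfsg.isometryGroup F f) : g * x * g⁻¹ ∈ Cfsg.isometryGroup F f := by
  obtain ⟨c, hc⟩ := hg
  intro u v
  show f (((g * x * g⁻¹ : GL ι F) : Matrix ι ι F) *ᵥ u) = f u
  rw [Units.val_mul, Units.val_mul, ← Matrix.mulVec_mulVec, ← Matrix.mulVec_mulVec, hc]
  have hx' := hx (((g⁻¹ : GL ι F) : Matrix ι ι F) *ᵥ u) v
  rw [show f ((x : Matrix ι ι F) *ᵥ (((g⁻¹ : GL ι F) : Matrix ι ι F) *ᵥ u)) = f (((g⁻¹ : GL ι F) : Matrix ι ι F) *ᵥ u) from hx',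
    ← hc, Matrix.mulVec_mulVec, Units.mul_inv, Matrix.one_mulVec]

/-- Conjugation of the isometry group by a similarity. -/
noncomputable def conjIso : Cfsg.Geo.quadSimilarityGroup (F := F) f →* MulAut (Cfsg.isometryGroup F f) where
  toFun g :=
    { toFun := fun x => ⟨g.1 * x.1 * g.1⁻¹, conj_mem g.2 x.2⟩
      invFun := fun x => ⟨g.1⁻¹ * x.1 * g.1, by
        have := conj_mem (inv_mem g.2) x.2
        rwa [inv_inv] at this⟩
      left_inv := fun x => Subtype.ext (by simp [mul_assoc])
      right_inv := fun x => Subtype.ext (by simp [mul_assoc])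
      map_mul' := fun x y => Subtype.ext (by simp [mul_assoc]) }
  map_one' := MulEquiv.ext fun x => Subtype.ext (by simp)
  map_mul' g h := MulEquiv.ext fun x => Subtype.ext (by simp [mul_assoc])

lemma conjIso_mem (g : Cfsg.Geo.quadSimilarityGroup (F := F) f) {s : Cfsg.isometryGroup F f}
    (hs : s ∈ Cfsg.Omega F f) : conjIso g s ∈ Cfsg.Omega F f := by
  have h := Subgroup.mem_map_of_mem (conjIso g).toMonoidHom hs
  rwa [show (Cfsg.Omega F f).map (conjIso g).toMonoidHom = Cfsg.Omega F f from
    (Subgroup.characteristic_iff_map_eq.1 (show (commutator (Cfsg.isometryGroup F f)).Characteristic from inferInstance) _)] at h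

/-- Conjugation of `Omega` by a similarity. -/
noncomputable def actO : Cfsg.Geo.quadSimilarityGroup (F := F) f →* MulAut (Cfsg.Omega F f) where
  toFun g :=
    { toFun := fun s => ⟨conjIso g s.1, conjIso_mem g s.2⟩
      invFun := fun s => ⟨conjIso g⁻¹ s.1, conjIso_mem g⁻¹ s.2⟩
      left_inv := fun s => Subtype.ext (by
        show conjIso g⁻¹ (conjIso g s.1) = s.1
        rw [← MulAut.mul_apply, ← map_mul, inv_mul_cancel, map_one, MulAut.one_apply])
      right_inv := fun s => Subtype.ext (by
        show conjIso g (conjIso g⁻¹ s.1) = s.1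
        rw [← MulAut.mul_apply, ← map_mul, mul_inv_cancel, map_one, MulAut.one_apply])
      map_mul' := fun s t => Subtype.ext (map_mul (conjIso g) _ _) }
  map_one' := MulEquiv.ext fun s => Subtype.ext (by show conjIso 1 s.1 = s.1; rw [map_one]; rfl)
  map_mul' g h := MulEquiv.ext fun s => Subtype.ext (by show conjIso (g * h) s.1 = _; rw [map_mul]; rfl)

lemma coe_actO (g : Cfsg.Geo.quadSimilarityGroup (F := F) f) (s : Cfsg.Omega F f) :
    ((((actO g s).1 : Cfsg.isometryGroup F f) : GL ι F) : Matrix ι ι F) =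
      (g.1 : Matrix ι ι F) * ((((s.1 : Cfsg.isometryGroup F f) : GL ι F) : Matrix ι ι F)) * ((g.1⁻¹ : GL ι F) : Matrix ι ι F) := rfl

/-- The action on `PΩ`. -/
noncomputable def psi : Cfsg.Geo.quadSimilarityGroup (F := F) f →* MulAut (Cfsg.POmega F f) where
  toFun g := QuotientGroup.congr _ _ (actO g)
    (Subgroup.characteristic_iff_map_eq.1 inferInstance (actO g))
  map_one' := MulEquiv.ext fun x => QuotientGroup.induction_on x fun s => by simp
  map_mul' g h := MulEquiv.ext fun x => QuotientGroup.induction_on x fun s => by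
    show QuotientGroup.mk (actO (g * h) s) = QuotientGroup.mk (actO g (actO h s))
    rw [map_mul]; rfl

lemma psi_mk (g : Cfsg.Geo.quadSimilarityGroup (F := F) f) (s : Cfsg.Omega F f) :
    psi g (QuotientGroup.mk s) = QuotientGroup.mk (actO g s) := rfl

lemma induced_iff (g : Cfsg.Geo.quadSimilarityGroup (F := F) f) (β : Cfsg.POmega F f ≃* Cfsg.POmega F f) :
    Cfsg.IsInducedBySemilinearPOmega f g.1 (RingEquiv.refl F) β ↔ β = psi g := by
  constructor
  · intro h
    refine MulEquiv.ext fun x => QuotientGroup.induction_on x fun s => ?_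
    rw [psi_mk]
    exact h s (actO g s) (by rw [coe_actO]; simp)
  · rintro rfl s s' e
    rw [psi_mk]
    congr 1
    refine Subtype.ext (Subtype.ext (Units.ext ?_))
    rw [coe_actO, e]
    simp

theorem autSub_eq {H : Subgroup (GL ι F)} (hH : H ≤ Cfsg.Geo.quadSimilarityGroup (F := F) f) :
    Cfsg.autSubgroupOf (fun β => ∃ g : GL ι F, g ∈ H ∧ Cfsg.IsInducedBySemilinearPOmega f g (RingEquiv.refl F) β) =
      (H.subgroupOf (Cfsg.Geo.quadSimilarityGroup (F := F) f)).map psi := by
  refine le_antisymm ((Subgroup.closure_le _).2 ?_) ?_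
  · rintro β ⟨g, hg, hβ⟩
    exact ⟨⟨g, hH hg⟩, hg, ((induced_iff ⟨g, hH hg⟩ β).1 hβ).symm⟩
  · rintro _ ⟨g, hg, rfl⟩
    exact Subgroup.subset_closure ⟨g.1, hg, (induced_iff g _).2 rfl⟩

lemma isometry_le : Cfsg.isometryGroup F f ≤ Cfsg.Geo.quadSimilarityGroup (F := F) f :=
  fun g hg => ⟨1, fun v => by rw [Units.val_one, one_mul]; exact hg v v⟩

lemma special_le : Cfsg.specialIsometryGL F f ≤ Cfsg.Geo.quadSimilarityGroup (F := F) f :=
  inf_le_left.trans isometry_le

theorem pgoAut_eq : Cfsg.pgoAut F f = (psi (f := f)).range := by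
  rw [show Cfsg.pgoAut F f = Cfsg.autSubgroupOf (fun β => ∃ g : GL ι F, g ∈ Cfsg.Geo.quadSimilarityGroup (F := F) f ∧
    Cfsg.IsInducedBySemilinearPOmega f g (RingEquiv.refl F) β) from rfl, autSub_eq le_rfl, Subgroup.subgroupOf_self, MonoidHom.range_eq_map]

theorem psoAut_eq : Cfsg.psoAut F f =
    ((Cfsg.specialIsometryGL F f).subgroupOf (Cfsg.Geo.quadSimilarityGroup (F := F) f)).map psi := by
  rw [show Cfsg.psoAut F f = Cfsg.autSubgroupOf (fun β => ∃ g : GL ι F, g ∈ Cfsg.specialIsometryGL F f ∧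
    Cfsg.IsInducedBySemilinearPOmega f g (RingEquiv.refl F) β) from rfl, autSub_eq special_le]

/-- `Omega` inside the similarities. -/
noncomputable def omegaSim : Cfsg.Omega F f →* Cfsg.Geo.quadSimilarityGroup (F := F) f :=
  (Subgroup.inclusion isometry_le).comp (Cfsg.Omega F f).subtype

theorem inn_eq : Cfsg.Inn (Cfsg.POmega F f) = (omegaSim (f := f)).range.map psi := by
  have key : ∀ t : Cfsg.Omega F f, psi (omegaSim t) = MulAut.conj (QuotientGroup.mk t : Cfsg.POmega F f) := fun t =>
    MulEquiv.ext fun x => QuotientGroup.induction_on x fun s => by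
      rw [psi_mk, MulAut.conj_apply, ← QuotientGroup.mk_inv, ← QuotientGroup.mk_mul, ← QuotientGroup.mk_mul]
      rfl
  ext β
  constructor
  · rintro ⟨x, rfl⟩
    obtain ⟨t, rfl⟩ := QuotientGroup.mk_surjective x
    exact ⟨omegaSim t, ⟨t, rfl⟩, key t⟩
  · rintro ⟨_, ⟨t, rfl⟩, rfl⟩
    exact ⟨_, (key t).symm⟩

lemma mem_scalars_iff {g : GL ι F} : g ∈ Cfsg.Geo.scalars ι F ↔ ∃ a : F, a ≠ 0 ∧ (g : Matrix ι ι F) = a • 1 := by
  constructor
  · rintro ⟨a, rfl⟩
    exact ⟨a, a.ne_zero, by ext i j; simp [Matrix.one_apply, Matrix.diagonal_apply]⟩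
  · rintro ⟨a, ha, e⟩
    exact ⟨Units.mk0 a ha, Units.ext (by rw [e]; ext i j; simp [Matrix.one_apply, Matrix.diagonal_apply])⟩

lemma psi_scalar {g : Cfsg.Geo.quadSimilarityGroup (F := F) f} (hg : g.1 ∈ Cfsg.Geo.scalars ι F) : psi g = 1 := by
  obtain ⟨a, ha, e⟩ := mem_scalars_iff.1 hg
  refine MulEquiv.ext fun x => QuotientGroup.induction_on x fun s => ?_
  rw [psi_mk, MulAut.one_apply]
  congr 1
  refine Subtype.ext (Subtype.ext (Units.ext ?_))
  rw [coe_actO, e]
  set S := (((s.1 : Cfsg.isometryGroup F f) : GL ι F) : Matrix ι ι F)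
  rw [show a • (1 : Matrix ι ι F) * S = S * (a • 1) by simp, mul_assoc, ← e, Units.mul_inv, mul_one]

variable [Fintype F] {Q : QuadraticForm F (ι → F)} (h : ∀ v, Q v = f v)
  (hB : (QuadraticMap.polarBilin Q).Nondegenerate)

include h hB

/-- A similarity inducing the identity on `PΩ` is scalar. -/
theorem mem_scalars_of_psi (h2 : (2 : F) ≠ 0) (T : OmegaCentre.Triple Q) (hn : 5 ≤ Fintype.card ι)
    {g : Cfsg.Geo.quadSimilarityGroup (F := F) f} (hg : psi g = 1) : g.1 ∈ Cfsg.Geo.scalars ι F := by
  classical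
  let L : (ι → F) →ₗ[F] (ι → F) := (g.1 : Matrix ι ι F).mulVecLin
  have hLinj : Function.Injective L := fun x y e => (mulVec_inj g.1).1 e
  have hsign : ∀ s : Cfsg.Omega F f, ∃ a : F, a * a = 1 ∧ ∀ x, L ((eI h s.1).1 x) = a • (eI h s.1).1 (L x) := by
    intro s
    have e := congrArg (fun β : MulAut (Cfsg.POmega F f) => β (QuotientGroup.mk s)) hg
    simp only [psi_mk, MulAut.one_apply, QuotientGroup.eq] at e
    obtain ⟨a, ha, hz⟩ := OmegaCentre.center_scalar h hB T _ e
    refine ⟨a, ha, fun x => ?_⟩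
    have e2 : ((s.1 : GL ι F) : Matrix ι ι F) =
        (((actO g s).1 : GL ι F) : Matrix ι ι F) * (((((actO g s)⁻¹ * s : Cfsg.Omega F f)).1 : GL ι F) : Matrix ι ι F) := by
      rw [← Units.val_mul, ← Subgroup.coe_mul, ← Subgroup.coe_mul, mul_inv_cancel_left]
    rw [hz, coe_actO, Matrix.mul_smul, mul_one] at e2
    rw [eI_apply, eI_apply]
    show (g.1 : Matrix ι ι F) *ᵥ _ = a • (_ *ᵥ ((g.1 : Matrix ι ι F) *ᵥ x))
    conv_rhs => rw [e2]
    rw [Matrix.smul_mulVec, Matrix.mulVec_mulVec, Matrix.mulVec_mulVec, smul_smul, ha, one_smul, mul_assoc, mul_assoc,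
      Units.inv_mul, mul_one]
  have hpair : ∀ u v, Q u ≠ 0 → Q u = Q v → ∀ x, L ((refl Q u * refl Q v).1 x) = (refl Q u * refl Q v).1 (L x) := by
    intro u v hu huv
    have hmem : (eI h).symm (refl Q u * refl Q v) ∈ Cfsg.Omega F f := by
      rw [omega_eq h, Subgroup.mem_comap, MulEquiv.coe_toMonoidHom, MulEquiv.apply_symm_apply]
      exact OmegaCentre.refl_mul_mem_commutator hB hu huv
    obtain ⟨a, ha, hk⟩ := hsign ⟨_, hmem⟩
    simp only [MulEquiv.apply_symm_apply] at hk
    rcases mul_self_eq_one_iff.1 ha with rfl | rfl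
    · intro x; rw [hk, one_smul]
    exfalso
    let K : Submodule F (ι → F) := LinearMap.ker (QuadraticMap.polarBilin Q u) ⊓ LinearMap.ker (QuadraticMap.polarBilin Q v)
    have hKd : finrank F (ι → F) ≤ finrank F K + 2 := by
      have h1 := (((QuadraticMap.polarBilin Q u).prod (QuadraticMap.polarBilin Q v)).finrank_range_add_finrank_ker)
      have h3 := ((QuadraticMap.polarBilin Q u).prod (QuadraticMap.polarBilin Q v)).range.finrank_le
      rw [LinearMap.ker_prod] at h1
      rw [Module.finrank_prod, finrank_self] at h3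
      have hKeq : finrank F K = finrank F ↥(LinearMap.ker (QuadraticMap.polarBilin Q u) ⊓ LinearMap.ker (QuadraticMap.polarBilin Q v)) := rfl
      omega
    have hmap : K.map L ≤ Submodule.span F (Set.range ![u, v]) := by
      rintro _ ⟨x, hx, rfl⟩
      obtain ⟨hx1, hx2⟩ := Submodule.mem_inf.1 hx
      have e : (refl Q u * refl Q v).1 x = x := by
        show (refl Q u).1 ((refl Q v).1 x) = x
        rw [refl_fix Q (LinearMap.mem_ker.1 hx2), refl_fix Q (LinearMap.mem_ker.1 hx1)]
      have e1 := hk x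
      rw [e] at e1
      set y := L x
      have e3 : (refl Q u).1 ((refl Q v).1 y) = -y := by
        rw [neg_one_smul] at e1
        exact (eq_neg_iff_add_eq_zero.2 (eq_neg_iff_add_eq_zero.1 e1 ▸ add_comm _ _))
      rw [refl_apply Q u, refl_apply Q v, sub_sub, sub_eq_iff_eq_add, ← sub_eq_iff_eq_add', sub_neg_eq_add, ← two_smul F] at e3
      rw [← inv_smul_smul₀ h2 y, e3]
      refine Submodule.smul_mem _ _ (Submodule.add_mem _ (Submodule.smul_mem _ _ (Submodule.subset_span ⟨1, rfl⟩))
        (Submodule.smul_mem _ _ (Submodule.subset_span ⟨0, rfl⟩)))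
    have h1 := Submodule.finrank_mono hmap
    rw [← (Submodule.equivMapOfInjective L hLinj K).finrank_eq] at h1
    have h3 := finrank_range_le_card (R := F) ![u, v]
    rw [Set.finrank] at h3
    simp at h3 hKd
    omega
  -- vectors with `Q ≠ 0` are eigenvectors
  have hplane : ∀ {u v}, Q u ≠ 0 → Q u = Q v → LinearIndependent F ![u, v] → ∃ a b : F, L u = a • u + b • v := by
    intro u v hu huv hind
    obtain ⟨y, hy1, hy2⟩ : ∃ y, QuadraticMap.polarBilin Q v y = 0 ∧ QuadraticMap.polarBilin Q u y = -Q u := by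
      let T2 : (ι → F) →ₗ[F] F × F := (QuadraticMap.polarBilin Q u).prod (QuadraticMap.polarBilin Q v)
      have hT : LinearMap.range T2 = ⊤ := by
        by_contra hne
        obtain ⟨φ, hφ, hker⟩ := Submodule.exists_le_ker_of_lt_top _ (lt_top_iff_ne_top.2 hne)
        have hzero : φ (1, 0) • u + φ (0, 1) • v = 0 := hB.1 _ fun y => by
          have h0 : φ (T2 y) = 0 := hker ⟨y, rfl⟩
          rw [show T2 y = (QuadraticMap.polarBilin Q u y) • ((1 : F), (0 : F)) + (QuadraticMap.polarBilin Q v y) • ((0 : F), (1 : F)) by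
            simp [T2], map_add, map_smul, map_smul] at h0
          simp only [map_add, map_smul, LinearMap.add_apply, LinearMap.smul_apply, smul_eq_mul] at h0 ⊢
          linear_combination h0
        obtain ⟨e1, e2⟩ := LinearIndependent.pair_iff.1 hind _ _ hzero
        refine hφ (LinearMap.ext fun p => ?_)
        rw [show p = p.1 • ((1 : F), (0 : F)) + p.2 • ((0 : F), (1 : F)) by simp, map_add, map_smul, map_smul, e1, e2]
        simp
      obtain ⟨y, hy⟩ := LinearMap.range_eq_top.1 hT (-Q u, 0)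
      exact ⟨y, congrArg Prod.snd hy, congrArg Prod.fst hy⟩
    have hky : (refl Q u * refl Q v).1 y = y + u := by
      show (refl Q u).1 ((refl Q v).1 y) = _
      rw [refl_fix Q hy1, refl_apply, hy2, mul_neg, inv_mul_cancel₀ hu, neg_smul, one_smul, sub_neg_eq_add]
    have hc := hpair u v hu huv y
    rw [hky, map_add] at hc
    have e : L u = (refl Q u * refl Q v).1 (L y) - L y := by rw [← hc]; abel
    rw [e]
    show ∃ a b : F, (refl Q u).1 ((refl Q v).1 (L y)) - L y = a • u + b • v
    rw [refl_apply Q u, refl_apply Q v]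
    exact ⟨-((Q u)⁻¹ * QuadraticMap.polarBilin Q u (L y - ((Q v)⁻¹ * QuadraticMap.polarBilin Q v (L y)) • v)),
      -((Q v)⁻¹ * QuadraticMap.polarBilin Q v (L y)), by rw [neg_smul, neg_smul]; abel⟩
  have heigen : ∀ u, Q u ≠ 0 → ∃ c : F, L u = c • u := by
    intro u hu
    let v : Fin 3 → (ι → F) := fun i => T.e i + Q u • T.f i
    have hv : ∀ i, Q (v i) = Q u := fun i => by
      rw [show v i = T.e i + Q u • T.f i from rfl, Witt.quad_add, Witt.quad_smul, T.qe, T.qf, map_smul, T.ef, if_pos rfl, smul_eq_mul]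
      ring
    have hev : ∀ i j, QuadraticMap.polarBilin Q (T.e i) (v j) = if i = j then Q u else 0 := fun i j => by
      rw [show v j = T.e j + Q u • T.f j from rfl, map_add, T.ee, map_smul, T.ef]
      split_ifs <;> simp
    obtain ⟨i, j, hij, hui, huvj⟩ : ∃ i j, i ≠ j ∧ LinearIndependent F ![u, v i] ∧ LinearIndependent F ![u, v i, v j] := by
      -- the first coordinates separate the three vectors
      have hvi : ∀ i j, i ≠ j → LinearIndependent F ![v i, v j] := fun i j hij => LinearIndependent.pair_iff.2 fun s t e => by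
        have a1 := congrArg (QuadraticMap.polarBilin Q (T.e i)) e
        have a2 := congrArg (QuadraticMap.polarBilin Q (T.e j)) e
        simp [hev, hij, hij.symm, hu, -QuadraticMap.polarBilin_apply_apply] at a1 a2
        exact ⟨a1, a2⟩
      have hspan : ∀ i j, i ≠ j → ¬ LinearIndependent F ![u, v i, v j] → u ∈ Submodule.span F {v i, v j} := fun i j hij hd => by
        by_contra hmem
        refine hd (linearIndependent_fin_cons.2 ⟨hvi i j hij, ?_⟩)
        rwa [Matrix.range_cons_cons_empty]
      have hsub : ∀ i j, i ≠ j → LinearIndependent F ![u, v i, v j] → LinearIndependent F ![u, v i] := fun i j _ hind => by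
        have := hind.comp ![0, 1] (by decide)
        convert this using 1
        ext l; fin_cases l <;> rfl
      by_cases h01 : LinearIndependent F ![u, v 0, v 1]
      · exact ⟨0, 1, by decide, hsub 0 1 (by decide) h01, h01⟩
      by_cases h02 : LinearIndependent F ![u, v 0, v 2]
      · exact ⟨0, 2, by decide, hsub 0 2 (by decide) h02, h02⟩
      by_cases h12 : LinearIndependent F ![u, v 1, v 2]
      · exact ⟨1, 2, by decide, hsub 1 2 (by decide) h12, h12⟩
      exfalso
      obtain ⟨a, b, e⟩ := Submodule.mem_span_pair.1 (hspan 0 1 (by decide) h01)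
      obtain ⟨a', c, e'⟩ := Submodule.mem_span_pair.1 (hspan 0 2 (by decide) h02)
      obtain ⟨b', c', e''⟩ := Submodule.mem_span_pair.1 (hspan 1 2 (by decide) h12)
      have x1 := congrArg (QuadraticMap.polarBilin Q (T.e 0)) (e.trans e''.symm)
      have x2 := congrArg (QuadraticMap.polarBilin Q (T.e 1)) (e.trans e'.symm)
      simp [hev, hu, -QuadraticMap.polarBilin_apply_apply] at x1 x2
      exact hu (by rw [← e, x1, x2]; simp)
    obtain ⟨a, b, e1⟩ := hplane hu (hv i).symm hui
    have huj : LinearIndependent F ![u, v j] := by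
      have := huvj.comp ![0, 2] (by decide)
      convert this using 1
      ext l; fin_cases l <;> rfl
    obtain ⟨c, d, e2⟩ := hplane hu (hv j).symm huj
    have := (Fintype.linearIndependent_iff.1 huvj) ![a - c, b, -d] (by
      simp only [Fin.sum_univ_three, Matrix.cons_val_zero, Matrix.cons_val_one, Matrix.cons_val]
      rw [sub_smul, neg_smul, ← sub_eq_zero.2 (e1.symm.trans e2)]
      abel) 1
    simp at this
    subst this
    exact ⟨a, by rw [e1, zero_smul, add_zero]⟩
  haveI : Invertible (2 : F) := invertibleOfNonzero h2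
  obtain ⟨b, hb⟩ := LinearMap.BilinForm.exists_orthogonal_basis
    (B := (QuadraticMap.polarBilin Q : LinearMap.BilinForm F (ι → F))) ⟨fun x y => Witt.polar_symm' Q x y⟩
  have hb' : ∀ i j, i ≠ j → QuadraticMap.polarBilin Q (b i) (b j) = 0 := fun i j hij => hb hij
  have hb0 : ∀ i, Q (b i) ≠ 0 := by
    intro i hi
    refine b.ne_zero i (hB.1 _ fun y => ?_)
    rw [← b.sum_repr y, map_sum]
    refine Finset.sum_eq_zero fun j _ => ?_
    rw [map_smul]
    rcases eq_or_ne i j with rfl | hij
    · rw [Witt.polar_self', hi, mul_zero, smul_zero]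
    · rw [hb' i j hij, smul_zero]
  choose c hc using fun i => heigen (b i) (hb0 i)
  have hcc : ∀ i j, c i = c j := by
    intro i j
    rcases eq_or_ne i j with rfl | hij
    · rfl
    by_cases hsum : Q (b i) + Q (b j) = 0
    · obtain ⟨k, hki, hkj⟩ : ∃ k, k ≠ i ∧ k ≠ j := by
        by_contra! hcon
        have hsub : Finset.univ ⊆ ({i, j} : Finset (Fin (finrank F (ι → F)))) := fun k _ => by
          simp only [Finset.mem_insert, Finset.mem_singleton]
          exact or_iff_not_imp_left.2 (hcon k)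
        have := Finset.card_le_card hsub
        rw [Finset.card_univ, Fintype.card_fin, Finset.card_pair hij, Module.finrank_fintype_fun_eq_card] at this
        omega
      have hQ3 : Q (b i + b j + b k) = Q (b k) := by
        rw [Witt.quad_add, Witt.quad_add, map_add, LinearMap.add_apply, hb' i j hij, hb' i k hki.symm, hb' j k hkj.symm]
        linear_combination hsum
      obtain ⟨d, hd⟩ := heigen _ (hQ3 ▸ hb0 k)
      rw [map_add, map_add, hc, hc, hc, smul_add, smul_add] at hd
      have e := fun l => congrArg (fun x => b.repr x l) hd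
      have ei := e i
      have ej := e j
      simp [hij, hij.symm, hki, hkj, hki.symm, hkj.symm] at ei ej
      exact ei.trans ej.symm
    · obtain ⟨d, hd⟩ := heigen (b i + b j) (by rw [Witt.quad_add, hb' i j hij, add_zero]; exact hsum)
      rw [map_add, hc, hc, smul_add] at hd
      have e := fun l => congrArg (fun x => b.repr x l) hd
      have ei := e i
      have ej := e j
      simp [hij, hij.symm] at ei ej
      exact ei.trans ej.symm
  haveI : Nonempty ι := Fintype.card_pos_iff.1 (by omega)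
  obtain ⟨i0⟩ := b.index_nonempty
  have hL : L = c i0 • LinearMap.id := b.ext fun i => by rw [hc, hcc i i0]; rfl
  refine mem_scalars_iff.2 ⟨c i0, fun h0 => b.ne_zero i0 (hLinj (by rw [hc, h0, zero_smul, map_zero])), ?_⟩
  refine Cfsg.Lib.Classical.ext_mulVec fun x => ?_
  rw [Matrix.smul_mulVec, Matrix.one_mulVec]
  exact LinearMap.congr_fun hL x

end Cfsg.Lib.Classical.OrthAut
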