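import Mathlib
import Cfsg.Agent.Lib.Classical.OrthAut.Basic
import Cfsg.Agent.Lib.Classical.DihedralIso

/-! The structure of the image of the conformal orthogonal group modulo the special and inner parts. -/

set_option autoImplicit false

namespace Cfsg.Lib.Classical.OrthAut

open Module Reflections OrthMatrix Spinor
open scoped Matrix MatrixGroups

universe u

section algebra

/-- The four group. -/
noncomputable def vierer : ℤˣ × ℤˣ →* Multiplicative (ZMod 2 × ZMod 2) :=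
  (Spinor.invHom (Multiplicative.ofAdd ((1 : ZMod 2), (0 : ZMod 2))) (by decide)).coprod
    (Spinor.invHom (Multiplicative.ofAdd ((0 : ZMod 2), (1 : ZMod 2))) (by decide))

lemma vierer_bijective : Function.Bijective vierer := by
  have h : ∀ p : ℤˣ × ℤˣ, vierer p = (if p.1 = 1 then 1 else Multiplicative.ofAdd ((1 : ZMod 2), (0 : ZMod 2))) *
      (if p.2 = 1 then 1 else Multiplicative.ofAdd ((0 : ZMod 2), (1 : ZMod 2))) := fun p => rfl
  rw [show (⇑vierer) = fun p => _ from funext h]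
  decide

/-- A homomorphism descends to the image of another one. -/
theorem exists_descend {G A M : Type*} [Group G] [Group A] [Group M] (ρ : G →* A) (χ : G →* M) (hχ : Function.Surjective χ)
    (H : Subgroup G) (hH : H ≤ χ.ker) (hker : ∀ g, χ g = 1 → ∃ h ∈ H, ρ g = ρ h) (hρ : ρ.ker ≤ χ.ker) :
    ∃ φ : ↥ρ.range →* M, Function.Surjective φ ∧ φ.ker = (H.map ρ).subgroupOf ρ.range := by
  let e := QuotientGroup.quotientKerEquivRange ρ
  let φ : ↥ρ.range →* M := (QuotientGroup.lift ρ.ker χ hρ).comp e.symm.toMonoidHom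
  have hφ : ∀ g, φ ⟨ρ g, ⟨g, rfl⟩⟩ = χ g := fun g => by
    have : e.symm ⟨ρ g, ⟨g, rfl⟩⟩ = QuotientGroup.mk g := e.injective (by rw [MulEquiv.apply_symm_apply]; rfl)
    simp [φ, this]
  refine ⟨φ, fun m => ?_, ?_⟩
  · obtain ⟨g, rfl⟩ := hχ m
    exact ⟨_, hφ g⟩
  · ext ⟨x, g, rfl⟩
    rw [MonoidHom.mem_ker, hφ, Subgroup.mem_subgroupOf]
    constructor
    · intro h1
      obtain ⟨h, hh, e'⟩ := hker g h1
      exact ⟨h, hh, e'.symm⟩
    · rintro ⟨h, hh, e'⟩
      have h2 : χ (h⁻¹ * g) = 1 := hρ (by rw [MonoidHom.mem_ker, map_mul, map_inv, e']; exact inv_mul_cancel _)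
      rw [map_mul, map_inv, MonoidHom.mem_ker.1 (hH hh), inv_one, one_mul] at h2
      exact h2

/-- Two involutions generating a nonabelian group of order eight. -/
theorem nonempty_dihedral {G : Type*} [Group G] (h8 : Nat.card G = 8) {a b : G} (haa : a * a = 1) (hbb : b * b = 1)
    (hab : (a * b) * (a * b) ≠ 1) : Nonempty (G ≃* DihedralGroup 4) := by
  haveI : Finite G := Nat.finite_of_card_ne_zero (by omega)
  have hdiv : orderOf (a * b) ∣ 8 := h8 ▸ orderOf_dvd_natCard _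
  have hx4 : orderOf (a * b) = 4 := by
    have h1 : orderOf (a * b) ≠ 1 := fun e => hab (by rw [orderOf_eq_one_iff.1 e, one_mul])
    have h2' : orderOf (a * b) ≠ 2 := fun e => hab (by
      have := pow_orderOf_eq_one (a * b); rwa [e, pow_two] at this)
    have h8' : orderOf (a * b) ≠ 8 := fun e => hab (by
      have htop : Subgroup.zpowers (a * b) = ⊤ := Subgroup.eq_top_of_card_eq _ (by rw [Nat.card_zpowers, e, h8])
      obtain ⟨i, hi⟩ := Subgroup.mem_zpowers_iff.1 (htop.symm ▸ Subgroup.mem_top a : a ∈ Subgroup.zpowers (a * b))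
      obtain ⟨j, hj⟩ := Subgroup.mem_zpowers_iff.1 (htop.symm ▸ Subgroup.mem_top b : b ∈ Subgroup.zpowers (a * b))
      have hc : a * b = b * a := by
        have h0 := ((Commute.refl (a * b)).zpow_zpow i j).eq
        rwa [hi, hj] at h0
      calc a * b * (a * b) = a * b * (b * a) := by rw [← hc]
        _ = 1 := by rw [mul_assoc, ← mul_assoc b, hbb, one_mul, haa])
    have := Nat.le_of_dvd (by norm_num) hdiv
    interval_cases h : orderOf (a * b) <;> omega
  let R : Subgroup G := Subgroup.zpowers (a * b)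
  have hR : Nat.card R = 4 := by rw [Nat.card_zpowers, hx4]
  have hidx : R.index = 2 := by
    have := R.card_mul_index
    rw [hR, h8] at this
    omega
  have hconj : a * (a * b) * a = (a * b)⁻¹ := by
    rw [mul_inv_rev, inv_eq_of_mul_eq_one_right hbb, inv_eq_of_mul_eq_one_right haa, ← mul_assoc, haa, one_mul]
  have haR : a ∉ R := fun h => hab (by
    obtain ⟨i, hi⟩ := Subgroup.mem_zpowers_iff.1 h
    have hc : a * (a * b) = (a * b) * a := by
      have h0 := ((Commute.refl (a * b)).zpow_left i).eq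
      rwa [hi] at h0
    calc a * b * (a * b) = a * b * (a * (a * b) * a)⁻¹ := by rw [hconj, inv_inv]
      _ = 1 := by rw [hc, mul_assoc (a * b), haa, mul_one, mul_inv_cancel])
  obtain ⟨e⟩ := nonempty_mulEquiv_dihedral R hR (by norm_num) a haa haR (fun r hr => by
    obtain ⟨i, rfl⟩ := Subgroup.mem_zpowers_iff.1 hr
    have hinva : a⁻¹ = a := inv_eq_of_mul_eq_one_right haa
    calc a * (a * b) ^ i * a = a * (a * b) ^ i * a⁻¹ := by rw [hinva]
      _ = ((a * b) ^ i)⁻¹ := by rw [← conj_zpow, hinva, hconj, inv_zpow]) (fun g => by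
    by_cases hg : g ∈ R
    · exact Or.inl hg
    · exact Or.inr ((Subgroup.mul_mem_iff_of_index_two hidx).2 (iff_of_false haR hg)))
  exact ⟨e⟩

/-- The form of `nonempty_dihedral` used below. -/
theorem dihedral_of_hom {G M : Type*} [Group G] [Group M] (h8 : Nat.card M = 8) (mk : G →* M) (r δ : G) (hr : r * r = 1)
    (hδ : mk (δ * δ) = 1) (hc : mk (r * δ * (r * δ⁻¹)) ≠ 1) : Nonempty (M ≃* DihedralGroup 4) := by
  have hb : mk δ * mk δ = 1 := by rw [← map_mul, hδ]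
  refine nonempty_dihedral h8 (a := mk r) (b := mk δ) (by rw [← map_mul, hr, map_one]) hb fun e => hc ?_
  rw [map_mul, map_mul, map_mul, map_inv, inv_eq_of_mul_eq_one_left hb]
  exact e

end algebra

variable {ι : Type} [Fintype ι] [DecidableEq ι] {F : Type u} [Field F] [Fintype F] {f : (ι → F) → F}

local notation "S" => Cfsg.Geo.quadSimilarityGroup (F := _) f

/-- The standing hypotheses: a nondegenerate form in even dimension at least six, odd characteristic, a similarity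
`δ` with nonsquare multiplier `d` whose square is scalar. -/
structure Data (f : (ι → F) → F) (m : ℕ) where
  Q : QuadraticForm F (ι → F)
  hf : ∀ v, Q v = f v
  hB : (QuadraticMap.polarBilin Q).Nondegenerate
  h2 : (2 : F) ≠ 0
  T : OmegaCentre.Triple Q
  hm : 3 ≤ m
  hι : Fintype.card ι = 2 * m
  δ : Cfsg.Geo.quadSimilarityGroup (F := F) f
  d : F
  hd : ¬ IsSquare d
  hδ : ∀ v, f ((δ.1 : Matrix ι ι F) *ᵥ v) = d * f v
  hδ2 : δ.1 * δ.1 ∈ Cfsg.Geo.scalars ι F

namespace Data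

variable {m : ℕ} (D : Data f m)
include D

lemma hex : (∃ c : F, c ≠ 0 ∧ c ≠ 1) ∨ finrank F (ι → F) ≠ 4 := hex_of_two_ne D.h2

lemma hn2 : 2 ≤ finrank F (ι → F) := by have := D.hm; have := D.hι; simp; omega

/-- A vector of norm one. -/
noncomputable def u : ι → F := D.T.e 0 + D.T.f 0

lemma Q_u : D.Q D.u = 1 := by
  rw [u, Witt.quad_add, D.T.qe, D.T.qf, D.T.ef, if_pos rfl]; ring

/-- The multiplier. -/
noncomputable def mult : Cfsg.Geo.quadSimilarityGroup (F := F) f →* Fˣ where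
  toFun g := g.2.choose
  map_one' := by
    have h := (1 : Cfsg.Geo.quadSimilarityGroup (F := F) f).2.choose_spec D.u
    rw [show ((1 : Cfsg.Geo.quadSimilarityGroup (F := F) f).1 : Matrix ι ι F) *ᵥ D.u = D.u by simp, ← D.hf, D.Q_u, mul_one] at h
    exact Units.ext h.symm
  map_mul' g h := by
    refine Units.ext ?_
    have h1 := (g * h).2.choose_spec D.u
    have h2 := g.2.choose_spec ((h.1 : Matrix ι ι F) *ᵥ D.u)
    rw [h.2.choose_spec, Matrix.mulVec_mulVec, ← Units.val_mul, ← Subgroup.coe_mul, h1, ← D.hf, D.Q_u, mul_one, mul_one] at h2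
    exact h2

lemma mult_spec (g : Cfsg.Geo.quadSimilarityGroup (F := F) f) (v : ι → F) :
    f ((g.1 : Matrix ι ι F) *ᵥ v) = (D.mult g : F) * f v := g.2.choose_spec v

lemma mult_eq {g : Cfsg.Geo.quadSimilarityGroup (F := F) f} {c : F} (h : ∀ v, f ((g.1 : Matrix ι ι F) *ᵥ v) = c * f v) :
    (D.mult g : F) = c := by
  have h1 := D.mult_spec g D.u
  rw [h, ← D.hf, D.Q_u, mul_one, mul_one] at h1
  exact h1.symm

lemma det_sq (g : Cfsg.Geo.quadSimilarityGroup (F := F) f) :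
    (g.1 : Matrix ι ι F).det = (D.mult g : F) ^ m ∨ (g.1 : Matrix ι ι F).det = -((D.mult g : F) ^ m) := by
  let B : LinearMap.BilinForm F (ι → F) := QuadraticMap.polarBilin D.Q
  let L : (ι → F) →ₗ[F] (ι → F) := (g.1 : Matrix ι ι F).mulVecLin
  have hB : B.comp L L = (D.mult g : F) • B := LinearMap.ext fun x => LinearMap.ext fun y => by
    simp only [B, L, LinearMap.BilinForm.comp_apply, QuadraticMap.polarBilin_apply_apply, QuadraticMap.polar,
      Matrix.mulVecLin_apply, ← Matrix.mulVec_add, D.hf, D.mult_spec, LinearMap.smul_apply, smul_eq_mul]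
    ring
  have e := congrArg (fun C => (LinearMap.BilinForm.toMatrix' C).det) hB
  simp only [LinearMap.BilinForm.toMatrix'_comp, map_smul, Matrix.det_mul, Matrix.det_transpose, Matrix.det_smul, D.hι] at e
  rw [show LinearMap.toMatrix' L = (g.1 : Matrix ι ι F) from LinearMap.toMatrix'_toLin' _] at e
  have hdet : (LinearMap.BilinForm.toMatrix' B).det ≠ 0 :=
    Matrix.nondegenerate_iff_det_ne_zero.1 (LinearMap.BilinForm.nondegenerate_toMatrix'_iff.2 D.hB)
  refine eq_or_eq_neg_of_sq_eq_sq _ _ (mul_left_cancel₀ hdet ?_)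
  linear_combination e

lemma neg_ne {x : F} (hx : x ≠ 0) : -x ≠ x := fun h => hx ((mul_eq_zero.1 (show (2 : F) * x = 0 by linear_combination -h)).resolve_left D.h2)

/-- The two invariants of a similarity. -/
noncomputable def chi : Cfsg.Geo.quadSimilarityGroup (F := F) f →* ℤˣ × ℤˣ :=
  letI := _root_.Classical.decEq F
  ((quadraticChar F).toUnitHom.comp D.mult).prod
    { toFun := fun g => if (g.1 : Matrix ι ι F).det = (D.mult g : F) ^ m then 1 else -1
      map_one' := if_pos (by simp)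
      map_mul' := fun g h => by
        have hne : ∀ x : Fˣ, -((x : F) ^ m) ≠ (x : F) ^ m := fun x => D.neg_ne (pow_ne_zero _ x.ne_zero)
        have hmul : ((g * h).1 : Matrix ι ι F).det = (g.1 : Matrix ι ι F).det * (h.1 : Matrix ι ι F).det := by
          rw [← Matrix.det_mul]; rfl
        have hp : (D.mult (g * h) : F) ^ m = (D.mult g : F) ^ m * (D.mult h : F) ^ m := by
          rw [map_mul, Units.val_mul, mul_pow]
        have hnp : ∀ k : Cfsg.Geo.quadSimilarityGroup (F := F) f, (k.1 : Matrix ι ι F).det = -((D.mult k : F) ^ m) →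
            ¬ (k.1 : Matrix ι ι F).det = (D.mult k : F) ^ m := fun k ek => by rw [ek]; exact hne _
        rcases D.det_sq g with e | e <;> rcases D.det_sq h with e' | e'
        · rw [if_pos e, if_pos e', if_pos (by rw [hmul, hp, e, e']), mul_one]
        · rw [if_pos e, if_neg (hnp _ e'), if_neg, one_mul]
          rw [hmul, hp, e, e', mul_neg]
          exact D.neg_ne (mul_ne_zero (pow_ne_zero _ (D.mult g).ne_zero) (pow_ne_zero _ (D.mult h).ne_zero))
        · rw [if_neg (hnp _ e), if_pos e', if_neg, mul_one]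
          rw [hmul, hp, e, e', neg_mul]
          exact D.neg_ne (mul_ne_zero (pow_ne_zero _ (D.mult g).ne_zero) (pow_ne_zero _ (D.mult h).ne_zero))
        · rw [if_neg (hnp _ e), if_neg (hnp _ e'), if_pos (by rw [hmul, hp, e, e', neg_mul_neg])]
          rfl }

lemma chi_fst (g : Cfsg.Geo.quadSimilarityGroup (F := F) f) : (D.chi g).1 = 1 ↔ IsSquare (D.mult g : F) := by
  classical
  rw [← quadraticChar_one_iff_isSquare (D.mult g).ne_zero, Units.ext_iff]
  simp only [chi, MonoidHom.prod_apply, MonoidHom.comp_apply, MulChar.coe_toUnitHom, Units.val_one]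

lemma chi_snd (g : Cfsg.Geo.quadSimilarityGroup (F := F) f) : (D.chi g).2 = 1 ↔ (g.1 : Matrix ι ι F).det = (D.mult g : F) ^ m := by
  classical
  simp only [chi, MonoidHom.prod_apply]
  show (if _ then (1 : ℤˣ) else -1) = 1 ↔ _
  split_ifs with h
  · simpa using h
  · simpa using h

/-- `SO` inside the similarities. -/
abbrev SO (f : (ι → F) → F) : Subgroup (Cfsg.Geo.quadSimilarityGroup (F := F) f) :=
  (Cfsg.specialIsometryGL F f).subgroupOf (Cfsg.Geo.quadSimilarityGroup (F := F) f)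

omit D in
lemma mem_SO {g : Cfsg.Geo.quadSimilarityGroup (F := F) f} :
    g ∈ SO f ↔ g.1 ∈ Cfsg.isometryGroup F f ∧ (g.1 : Matrix ι ι F).det = 1 := by
  rw [SO, Subgroup.mem_subgroupOf, Cfsg.specialIsometryGL, Subgroup.mem_inf]
  exact and_congr_right fun _ => Units.ext_iff

lemma so_le_ker : SO f ≤ D.chi.ker := by
  intro g hg
  obtain ⟨hiso, hdet⟩ := mem_SO.1 hg
  have hμ : (D.mult g : F) = 1 := D.mult_eq fun v => by rw [one_mul]; exact hiso v v
  exact Prod.ext ((D.chi_fst g).2 (by rw [hμ]; exact IsSquare.one)) ((D.chi_snd g).2 (by rw [hdet, hμ, one_pow]))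

lemma psi_ker {g : Cfsg.Geo.quadSimilarityGroup (F := F) f} (hg : psi g = 1) :
    ∃ a : F, a ≠ 0 ∧ (g.1 : Matrix ι ι F) = a • 1 :=
  mem_scalars_iff.1 (mem_scalars_of_psi D.hf D.hB D.h2 D.T (by have := D.hm; have := D.hι; omega) hg)

lemma ker_le : (psi (f := f)).ker ≤ D.chi.ker := by
  intro g hg
  obtain ⟨a, ha, e⟩ := D.psi_ker hg
  have hμ : (D.mult g : F) = a * a := D.mult_eq fun v => by
    rw [e, Matrix.smul_mulVec, Matrix.one_mulVec, ← D.hf, ← D.hf, Witt.quad_smul]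
  refine Prod.ext ((D.chi_fst g).2 ⟨a, hμ⟩) ((D.chi_snd g).2 ?_)
  rw [hμ, e, Matrix.det_smul, Matrix.det_one, D.hι, mul_one, pow_mul, pow_two]

lemma ker_chi (g : Cfsg.Geo.quadSimilarityGroup (F := F) f) (hg : D.chi g = 1) : ∃ h ∈ SO f, psi g = psi h := by
  obtain ⟨a, ha⟩ := (D.chi_fst g).1 (congrArg Prod.fst hg)
  have hdet := (D.chi_snd g).1 (congrArg Prod.snd hg)
  have ha0 : a ≠ 0 := fun h0 => (D.mult g).ne_zero (by rw [ha, h0, mul_zero])
  let z : GL ι F := Units.map (Matrix.scalar ι : F →+* Matrix ι ι F).toMonoidHom (Units.mk0 a⁻¹ (inv_ne_zero ha0))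
  have hz : (z : Matrix ι ι F) = a⁻¹ • 1 := by ext i j; simp [z, Matrix.one_apply, Matrix.diagonal_apply]
  have hzS : z ∈ Cfsg.Geo.quadSimilarityGroup (F := F) f := ⟨Units.mk0 (a⁻¹ * a⁻¹) (by simp [ha0]), fun v => by
    rw [hz, Matrix.smul_mulVec, Matrix.one_mulVec, ← D.hf, ← D.hf, Witt.quad_smul]; rfl⟩
  refine ⟨⟨z, hzS⟩ * g, mem_SO.2 ⟨fun v _ => ?_, ?_⟩, ?_⟩
  · show f (((z * g.1 : GL ι F) : Matrix ι ι F) *ᵥ v) = f v
    rw [Units.val_mul, ← Matrix.mulVec_mulVec, hz, Matrix.smul_mulVec, Matrix.one_mulVec, ← D.hf, Witt.quad_smul, D.hf,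
      D.mult_spec, ha]
    field_simp
  · show (((z * g.1 : GL ι F)) : Matrix ι ι F).det = 1
    rw [Units.val_mul, Matrix.det_mul, hz, Matrix.det_smul, Matrix.det_one, mul_one, hdet, ha, D.hι, pow_mul, ← mul_pow]
    field_simp
    simp
  · rw [map_mul, psi_scalar (g := ⟨z, hzS⟩) (mem_scalars_iff.2 ⟨a⁻¹, inv_ne_zero ha0, hz⟩), one_mul]

/-- A reflection as a similarity. -/
noncomputable def refS (v : ι → F) : Cfsg.Geo.quadSimilarityGroup (F := F) f :=
  ⟨((eI D.hf).symm (refl D.Q v)).1, isometry_le ((eI D.hf).symm (refl D.Q v)).2⟩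

lemma coe_refS (v x : ι → F) : ((D.refS v).1 : Matrix ι ι F) *ᵥ x = (refl D.Q v).1 x := by
  show ((((eI D.hf).symm (refl D.Q v) : Cfsg.isometryGroup F f) : GL ι F) : Matrix ι ι F) *ᵥ x = _
  rw [← eI_apply D.hf, MulEquiv.apply_symm_apply]

lemma refS_sq (v : ι → F) : D.refS v * D.refS v = 1 := Subtype.ext (by
  show ((eI D.hf).symm (refl D.Q v) * (eI D.hf).symm (refl D.Q v)).1 = 1
  rw [← map_mul, refl_mul_self, map_one]; rfl)

lemma det_refS {v : ι → F} (hv : D.Q v ≠ 0) : ((D.refS v).1 : Matrix ι ι F).det = -1 := by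
  show ((((eI D.hf).symm (refl D.Q v) : Cfsg.isometryGroup F f) : GL ι F) : Matrix ι ι F).det = -1
  rw [det_eq_delta D.hf D.hB D.hex, MulEquiv.apply_symm_apply, delta_refl D.hB D.hex hv]
  simp

lemma chi_refS : D.chi (D.refS D.u) = (1, -1) := by
  have hμ : (D.mult (D.refS D.u) : F) = 1 := D.mult_eq fun v => by
    rw [one_mul]; exact ((eI D.hf).symm (refl D.Q D.u)).2 v v
  refine Prod.ext ((D.chi_fst _).2 (hμ ▸ IsSquare.one)) ((Int.units_eq_one_or _).resolve_left fun h => ?_)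
  have h1 := (D.chi_snd _).1 h
  rw [D.det_refS (by rw [D.Q_u]; exact one_ne_zero), hμ, one_pow] at h1
  exact D.neg_ne one_ne_zero h1

lemma chi_delta : (D.chi D.δ).1 = -1 :=
  (Int.units_eq_one_or _).resolve_left fun h => D.hd (D.mult_eq D.hδ ▸ (D.chi_fst _).1 h)

lemma chi_surj : Function.Surjective D.chi := by
  rintro ⟨x, y⟩
  have key : ∀ z : ℤˣ, ∃ g, D.chi g = (1, z) := fun z => by
    rcases Int.units_eq_one_or z with rfl | rfl
    · exact ⟨1, map_one _⟩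
    · exact ⟨_, D.chi_refS⟩
  rcases Int.units_eq_one_or x with rfl | rfl
  · exact key y
  · obtain ⟨g, hg⟩ := key (y * (D.chi D.δ).2)
    refine ⟨g * D.δ, ?_⟩
    rw [map_mul, hg]
    exact Prod.ext (by rw [Prod.fst_mul, D.chi_delta, one_mul]) (by rw [Prod.snd_mul, mul_assoc, Int.units_mul_self, mul_one])

theorem pgo_mod_pso : ∃ φ : ↥(Cfsg.pgoAut F f) →* Multiplicative (ZMod 2 × ZMod 2),
    Function.Surjective φ ∧ φ.ker = (Cfsg.psoAut F f).subgroupOf (Cfsg.pgoAut F f) := by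
  rw [psoAut_eq, pgoAut_eq]
  refine exists_descend psi (vierer.comp D.chi) (vierer_bijective.2.comp D.chi_surj) (SO f) ?_ ?_ ?_
  · exact fun g hg => by rw [MonoidHom.mem_ker, MonoidHom.comp_apply, D.so_le_ker hg, map_one]
  · exact fun g hg => D.ker_chi g (vierer_bijective.1 (by rw [map_one]; exact hg))
  · exact fun g hg => by rw [MonoidHom.mem_ker, MonoidHom.comp_apply, D.ker_le hg, map_one]

lemma omega_le : (omegaSim (f := f)).range ≤ SO f := by
  rintro _ ⟨t, rfl⟩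
  refine mem_SO.2 ⟨t.1.2, ?_⟩
  show (((t.1 : Cfsg.isometryGroup F f) : GL ι F) : Matrix ι ι F).det = 1
  rw [det_eq_delta D.hf D.hB D.hex, ((mem_omega_iff D.hf D.hB D.hex D.h2 D.hn2 t.1).1 t.2).1]
  simp

lemma inn_le : Cfsg.Inn (Cfsg.POmega F f) ≤ Cfsg.psoAut F f := by
  rw [inn_eq, psoAut_eq]; exact Subgroup.map_mono D.omega_le

/-- The spinor sign of an element of `SO`, as an isometry. -/
lemma so_cases {g : Cfsg.Geo.quadSimilarityGroup (F := F) f} (hg : g ∈ SO f) :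
    delta D.hB D.hex (eI D.hf ⟨g.1, (mem_SO.1 hg).1⟩) = 1 := by
  rw [← mem_special_iff_odd D.hf D.hB D.hex D.h2]
  exact Units.ext (mem_SO.1 hg).2

theorem inn_eq_pso (hno : ¬ ∃ g : Cfsg.isometryGroup F f, g ∈ Cfsg.Omega F f ∧ ((g : GL ι F) : Matrix ι ι F) = -1) :
    Cfsg.Inn (Cfsg.POmega F f) = Cfsg.psoAut F f := by
  refine le_antisymm D.inn_le ?_
  rw [inn_eq, psoAut_eq]
  rintro _ ⟨g, hg, rfl⟩
  set x : Cfsg.isometryGroup F f := ⟨g.1, (mem_SO.1 hg).1⟩
  have hneg : (-1 : GL ι F) ∈ Cfsg.isometryGroup F f := fun v _ => by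
    show f (((-1 : GL ι F) : Matrix ι ι F) *ᵥ v) = f v
    rw [Units.val_neg, Units.val_one, Matrix.neg_mulVec, Matrix.one_mulVec, ← D.hf, QuadraticMap.map_neg, D.hf]
  set z : Cfsg.isometryGroup F f := ⟨-1, hneg⟩ with hz
  have hzδ : delta D.hB D.hex (eI D.hf z) = 1 := by
    rw [← mem_special_iff_odd D.hf D.hB D.hex D.h2]
    refine Units.ext ?_
    show (((-1 : GL ι F)) : Matrix ι ι F).det = 1
    rw [Units.val_neg, Units.val_one, Matrix.det_neg, Matrix.det_one, D.hι, mul_one, pow_mul, neg_one_sq, one_pow]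
  have hzθ : theta (eI D.hf z) = -1 := (Int.units_eq_one_or _).resolve_left fun h => hno
    ⟨z, (mem_omega_iff D.hf D.hB D.hex D.h2 D.hn2 z).2 ⟨hzδ, h⟩, by simp [hz]⟩
  rcases Int.units_eq_one_or (theta (eI D.hf x)) with e | e
  · exact ⟨omegaSim ⟨x, (mem_omega_iff D.hf D.hB D.hex D.h2 D.hn2 x).2 ⟨D.so_cases hg, e⟩⟩, ⟨_, rfl⟩, rfl⟩
  · refine ⟨omegaSim ⟨z * x, (mem_omega_iff D.hf D.hB D.hex D.h2 D.hn2 _).2 ⟨?_, ?_⟩⟩, ⟨_, rfl⟩, ?_⟩
    · rw [map_mul, map_mul, hzδ, one_mul]; exact D.so_cases hg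
    · rw [map_mul, map_mul, hzθ, e]; rfl
    · rw [show ∀ hh, omegaSim (f := f) ⟨z * x, hh⟩ =
          (⟨z.1, isometry_le z.2⟩ : Cfsg.Geo.quadSimilarityGroup (F := F) f) * g from fun hh => Subtype.ext rfl,
        map_mul, psi_scalar, one_mul]
      exact mem_scalars_iff.2 ⟨-1, neg_ne_zero.2 one_ne_zero, by simp [hz]⟩

/-- `[r, δ]`. -/
noncomputable def comm : Cfsg.Geo.quadSimilarityGroup (F := F) f := D.refS D.u * D.δ * (D.refS D.u * D.δ⁻¹)

lemma conj_refS (v : ι → F) : D.δ * D.refS v * D.δ⁻¹ = D.refS ((D.δ.1 : Matrix ι ι F) *ᵥ v) := by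
  rw [mul_inv_eq_iff_eq_mul]
  refine Subtype.ext (Units.ext (Cfsg.Lib.Classical.ext_mulVec fun x => ?_))
  show ((D.δ.1 : Matrix ι ι F) * ((D.refS v).1 : Matrix ι ι F)) *ᵥ x =
    (((D.refS ((D.δ.1 : Matrix ι ι F) *ᵥ v)).1 : Matrix ι ι F) * (D.δ.1 : Matrix ι ι F)) *ᵥ x
  rw [← Matrix.mulVec_mulVec, ← Matrix.mulVec_mulVec, D.coe_refS, D.coe_refS, refl_apply, refl_apply,
    Matrix.mulVec_sub, Matrix.mulVec_smul]
  have hpol : QuadraticMap.polarBilin D.Q ((D.δ.1 : Matrix ι ι F) *ᵥ v) ((D.δ.1 : Matrix ι ι F) *ᵥ x) =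
      D.d * QuadraticMap.polarBilin D.Q v x := by
    simp only [QuadraticMap.polarBilin_apply_apply, QuadraticMap.polar, ← Matrix.mulVec_add, D.hf, D.hδ]
    ring
  have hQd : D.Q ((D.δ.1 : Matrix ι ι F) *ᵥ v) = D.d * D.Q v := by rw [D.hf, D.hf, D.hδ]
  rw [hpol, hQd, mul_inv_rev, mul_assoc, inv_mul_cancel_left₀ (fun h : D.d = 0 => D.hd (h ▸ IsSquare.zero))]

lemma comm_eq : D.comm = D.refS D.u * D.refS ((D.δ.1 : Matrix ι ι F) *ᵥ D.u) := by
  rw [comm, ← D.conj_refS]; group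

lemma comm_so : D.comm ∈ SO f := by
  have hv : D.Q ((D.δ.1 : Matrix ι ι F) *ᵥ D.u) ≠ 0 := by
    rw [D.hf, D.hδ, ← D.hf, D.Q_u, mul_one]; exact fun h => D.hd (h ▸ IsSquare.zero)
  rw [D.comm_eq]
  refine mem_SO.2 ⟨mul_mem ((eI D.hf).symm _).2 ((eI D.hf).symm _).2, ?_⟩
  show (((D.refS D.u).1 : Matrix ι ι F) * ((D.refS _).1 : Matrix ι ι F)).det = 1
  rw [Matrix.det_mul, D.det_refS (by rw [D.Q_u]; exact one_ne_zero), D.det_refS hv]
  ring

lemma comm_theta : theta (eI D.hf ⟨D.comm.1, (mem_SO.1 D.comm_so).1⟩) = -1 := by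
  have hv : D.Q ((D.δ.1 : Matrix ι ι F) *ᵥ D.u) = D.d := by rw [D.hf, D.hδ, ← D.hf, D.Q_u, mul_one]
  have e : (⟨D.comm.1, (mem_SO.1 D.comm_so).1⟩ : Cfsg.isometryGroup F f) =
      (eI D.hf).symm (refl D.Q D.u) * (eI D.hf).symm (refl D.Q ((D.δ.1 : Matrix ι ι F) *ᵥ D.u)) := by
    apply Subtype.ext
    exact (congrArg Subtype.val D.comm_eq : _)
  have hd0 : D.d ≠ 0 := fun h => D.hd (h ▸ IsSquare.zero)
  rw [e, map_mul, map_mul, MulEquiv.apply_symm_apply, MulEquiv.apply_symm_apply,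
    (theta_refl D.h2 (by rw [D.Q_u]; exact one_ne_zero)).2 (by rw [D.Q_u]; exact IsSquare.one),
    (Int.units_eq_one_or _).resolve_right fun h => D.hd (hv ▸ (theta_refl D.h2 (by rw [hv]; exact hd0)).1 h), mul_one]

section yes

variable (hyes : ∃ g : Cfsg.isometryGroup F f, g ∈ Cfsg.Omega F f ∧ ((g : GL ι F) : Matrix ι ι F) = -1)
include hyes

lemma theta_neg_not_inn {g : Cfsg.Geo.quadSimilarityGroup (F := F) f} (hg : g ∈ SO f)
    (hθ : theta (eI D.hf ⟨g.1, (mem_SO.1 hg).1⟩) = -1) : psi g ∉ Cfsg.Inn (Cfsg.POmega F f) := by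
  rw [inn_eq]
  rintro ⟨_, ⟨t, rfl⟩, e⟩
  obtain ⟨a, ha, he⟩ := D.psi_ker (g := (omegaSim t)⁻¹ * g) (by rw [map_mul, map_inv, e, inv_mul_cancel])
  obtain ⟨w, hw, hwe⟩ := hyes
  set x : Cfsg.isometryGroup F f := ⟨g.1, (mem_SO.1 hg).1⟩
  have h1 : t.1⁻¹ * x ∈ Cfsg.Omega F f := by
    have hq : a * a = 1 := by
      have := (t.1⁻¹ * x).2 D.u D.u
      change f ((((omegaSim t)⁻¹ * g).1 : Matrix ι ι F) *ᵥ D.u) = f D.u at this
      rwa [he, Matrix.smul_mulVec, Matrix.one_mulVec, ← D.hf, ← D.hf, Witt.quad_smul, D.Q_u, mul_one] at this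
    rcases mul_self_eq_one_iff.1 hq with rfl | rfl
    · rw [show t.1⁻¹ * x = 1 from Subtype.ext (Units.ext (he.trans (one_smul _ _)))]; exact one_mem _
    · rw [show t.1⁻¹ * x = w from Subtype.ext (Units.ext (he.trans (by rw [hwe, neg_one_smul])))]; exact hw
  have hx : x ∈ Cfsg.Omega F f := by
    have := mul_mem t.2 h1
    rwa [mul_inv_cancel_left] at this
  rw [((mem_omega_iff D.hf D.hB D.hex D.h2 D.hn2 x).1 hx).2] at hθ
  exact absurd hθ (by decide)

theorem relIndex_two : (Cfsg.Inn (Cfsg.POmega F f)).relIndex (Cfsg.psoAut F f) = 2 := by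
  rw [Subgroup.relIndex, Subgroup.index_eq_two_iff]
  have hc : psi D.comm ∈ Cfsg.psoAut F f := by rw [psoAut_eq]; exact ⟨_, D.comm_so, rfl⟩
  have hnot := D.theta_neg_not_inn hyes D.comm_so D.comm_theta
  refine ⟨⟨psi D.comm, hc⟩, fun ⟨b, hb⟩ => ?_⟩
  rw [Subgroup.mem_subgroupOf, Subgroup.mem_subgroupOf]
  rw [psoAut_eq] at hb
  obtain ⟨g, hg, rfl⟩ := hb
  show Xor (psi g * psi D.comm ∈ _) (psi g ∈ _)
  set x : Cfsg.isometryGroup F f := ⟨g.1, (mem_SO.1 hg).1⟩
  rcases Int.units_eq_one_or (theta (eI D.hf x)) with e | e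
  · have hin : psi g ∈ Cfsg.Inn (Cfsg.POmega F f) := by
      rw [inn_eq]
      exact ⟨omegaSim ⟨x, (mem_omega_iff D.hf D.hB D.hex D.h2 D.hn2 x).2 ⟨D.so_cases hg, e⟩⟩, ⟨_, rfl⟩, rfl⟩
    exact Or.inr ⟨hin, fun h => hnot ((Subgroup.mul_mem_cancel_left _ hin).1 h)⟩
  · refine Or.inl ⟨?_, D.theta_neg_not_inn hyes hg e⟩
    rw [← map_mul, inn_eq]
    set y : Cfsg.isometryGroup F f := ⟨D.comm.1, (mem_SO.1 D.comm_so).1⟩
    refine ⟨omegaSim ⟨x * y, (mem_omega_iff D.hf D.hB D.hex D.h2 D.hn2 _).2 ⟨?_, ?_⟩⟩, ⟨_, rfl⟩, rfl⟩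
    · rw [map_mul, map_mul, D.so_cases hg, D.so_cases D.comm_so, one_mul]
    · rw [map_mul, map_mul, e, D.comm_theta]; rfl

theorem dihedral : ∃ φ : ↥(Cfsg.pgoAut F f) →* DihedralGroup 4,
    Function.Surjective φ ∧ φ.ker = (Cfsg.Inn (Cfsg.POmega F f)).subgroupOf (Cfsg.pgoAut F f) := by
  haveI hN : (Cfsg.Inn (Cfsg.POmega F f)).Normal := ⟨fun x hx g => by
    obtain ⟨y, rfl⟩ := hx
    exact ⟨g y, MulEquiv.ext fun z => by simp⟩⟩
  set P := Cfsg.pgoAut F f with hP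
  set I := (Cfsg.Inn (Cfsg.POmega F f)).subgroupOf P
  haveI : I.Normal := inferInstance
  obtain ⟨φ0, hφ0, hk0⟩ := D.pgo_mod_pso
  have h4 : (Cfsg.psoAut F f).relIndex P = 4 := by
    rw [Subgroup.relIndex, ← hk0, Subgroup.index_ker, MonoidHom.range_eq_top.2 hφ0, Subgroup.card_top]
    simp
  have hle : Cfsg.psoAut F f ≤ P := by
    rw [hP, psoAut_eq, pgoAut_eq]; rintro _ ⟨g, _, rfl⟩; exact ⟨g, rfl⟩
  have h8 : Nat.card (↥P ⧸ I) = 8 := by
    have := Subgroup.relIndex_mul_relIndex _ _ _ D.inn_le hle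
    rw [D.relIndex_two hyes, h4] at this
    rw [← Subgroup.index_eq_card]
    exact this.symm
  have hmemP : ∀ g, psi g ∈ P := fun g => by rw [hP, pgoAut_eq]; exact ⟨g, rfl⟩
  obtain ⟨mk, hmk⟩ : ∃ mk : Cfsg.Geo.quadSimilarityGroup (F := F) f →* ↥P ⧸ I,
      ∀ g, mk g = 1 ↔ psi g ∈ Cfsg.Inn (Cfsg.POmega F f) :=
    ⟨(QuotientGroup.mk' I).comp ((psi (f := f)).codRestrict P hmemP), fun g => by
      simp [I, QuotientGroup.eq_one_iff, Subgroup.mem_subgroupOf]⟩
  obtain ⟨e⟩ := dihedral_of_hom h8 mk (D.refS D.u) D.δ (by rw [D.refS_sq])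
    ((hmk _).2 (by rw [psi_scalar (g := D.δ * D.δ) D.hδ2]; exact one_mem _))
    (fun h => D.theta_neg_not_inn hyes D.comm_so D.comm_theta ((hmk _).1 h))
  refine ⟨e.toMonoidHom.comp (QuotientGroup.mk' I), e.surjective.comp (QuotientGroup.mk'_surjective I), ?_⟩
  ext z
  show e.toMonoidHom (QuotientGroup.mk' I z) = 1 ↔ _
  rw [MulEquiv.coe_toMonoidHom, EmbeddingLike.map_eq_one_iff, ← MonoidHom.mem_ker, QuotientGroup.ker_mk']

end yes

theorem vierer_inn (hno : ¬ ∃ g : Cfsg.isometryGroup F f, g ∈ Cfsg.Omega F f ∧ ((g : GL ι F) : Matrix ι ι F) = -1) :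
    ∃ φ : ↥(Cfsg.pgoAut F f) →* Multiplicative (ZMod 2 × ZMod 2),
    Function.Surjective φ ∧ φ.ker = (Cfsg.Inn (Cfsg.POmega F f)).subgroupOf (Cfsg.pgoAut F f) := by
  rw [D.inn_eq_pso hno]; exact D.pgo_mod_pso

theorem relIndex_one (hno : ¬ ∃ g : Cfsg.isometryGroup F f, g ∈ Cfsg.Omega F f ∧ ((g : GL ι F) : Matrix ι ι F) = -1) :
    (Cfsg.Inn (Cfsg.POmega F f)).relIndex (Cfsg.psoAut F f) = 1 := by
  rw [D.inn_eq_pso hno, Subgroup.relIndex_self]

end Data

end Cfsg.Lib.Classical.OrthAut
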